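import Cfsg.Agent.Lib.GW.Sig.Abelian.Basic

/-!
# A non-abelian minimal invariant subgroup moved by the four-group

`Two` is the datum of the case in which `X` leaves no abelian subgroup of `R` moved by the
four-group invariant: a subgroup `F` of class two and exponent `r` whose centre is fixed by the
four-group.
-/

set_option autoImplicit false

namespace CfsgLib.GW.Sig

open Subgroup Cfsg
open CfsgLib.Signalizer (involution_sq involution_inv involution_ne_one orderOf_conj)

universe u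

variable {G : Type u} [Group G] [Finite G] {r : ℕ} [Fact r.Prime]

/-- The datum of the case of class two. -/
structure Two (G : Type u) [Group G] (r : ℕ) where
  c : Ctx G r
  F : Subgroup G
  t : G
  u : G
  g : G
  rot : Rot t u g
  ht : t ∈ c.X
  hu : u ∈ c.X
  hg : g ∈ c.X
  F_le : F ≤ (c.R : Subgroup G)
  F_norm : c.X ≤ normalizer (F : Set G)
  pow : ∀ a ∈ F, a ^ r = 1
  cent : ∀ a ∈ F, ∀ b ∈ F, ∀ f ∈ F, Commute (a * b * a⁻¹ * b⁻¹) f
  fixed : ∀ y ∈ F, (∀ f ∈ F, Commute y f) → Commute t y ∧ Commute u y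
  moved : ¬ ∀ a ∈ F, Commute t a ∧ Commute u a

namespace Two

variable (d : Two G r)

/-- The datum seen from the next involution of the four-group. -/
def next (d : Two G r) : Two G r where
  c := d.c
  F := d.F
  t := d.u
  u := d.t * d.u
  g := d.g
  rot := d.rot.next
  ht := d.hu
  hu := mul_mem d.ht d.hu
  hg := d.hg
  F_le := d.F_le
  F_norm := d.F_norm
  pow := d.pow
  cent := d.cent
  fixed := fun y hy h => ⟨(d.fixed y hy h).2, (d.fixed y hy h).1.mul_left (d.fixed y hy h).2⟩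
  moved := fun h => d.moved fun a ha => ⟨by
    have h1 := (h a ha).2.mul_left (h a ha).1
    rwa [mul_assoc, involution_sq d.rot.hu, mul_one] at h1, (h a ha).1⟩

/-- The datum conjugated by an element of `F`. -/
def conj (d : Two G r) {f : G} (hf : f ∈ d.F) : Two G r where
  c := d.c
  F := d.F
  t := f * d.t * f⁻¹
  u := f * d.u * f⁻¹
  g := f * d.g * f⁻¹
  rot := d.rot.conj f
  ht := mul_mem (mul_mem (d.c.R_le (d.F_le hf)) d.ht) (inv_mem (d.c.R_le (d.F_le hf)))
  hu := mul_mem (mul_mem (d.c.R_le (d.F_le hf)) d.hu) (inv_mem (d.c.R_le (d.F_le hf)))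
  hg := mul_mem (mul_mem (d.c.R_le (d.F_le hf)) d.hg) (inv_mem (d.c.R_le (d.F_le hf)))
  F_le := d.F_le
  F_norm := d.F_norm
  pow := d.pow
  cent := d.cent
  fixed := fun y hy h => by
    obtain ⟨h1, h2⟩ := d.fixed y hy h
    have e : f * y * f⁻¹ = y := conj_eq_of_commute (h f hf).symm
    have k1 := h1.map (MulAut.conj f).toMonoidHom
    have k2 := h2.map (MulAut.conj f).toMonoidHom
    simp only [MulEquiv.coe_toMonoidHom, MulAut.conj_apply, e] at k1 k2
    exact ⟨k1, k2⟩
  moved := fun h => d.moved fun a ha => by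
    obtain ⟨h1, h2⟩ := h (f * a * f⁻¹) (mul_mem (mul_mem hf ha) (inv_mem hf))
    have k1 := h1.map (MulAut.conj f⁻¹).toMonoidHom
    have k2 := h2.map (MulAut.conj f⁻¹).toMonoidHom
    simp only [MulEquiv.coe_toMonoidHom, MulAut.conj_apply, inv_inv] at k1 k2
    rw [show f⁻¹ * (f * a * f⁻¹) * f = a by group] at k1 k2
    rw [show f⁻¹ * (f * d.t * f⁻¹) * f = d.t by group] at k1
    rw [show f⁻¹ * (f * d.u * f⁻¹) * f = d.u by group] at k2
    exact ⟨k1, k2⟩

theorem isP : IsPGroup r d.F := fun a => ⟨1, Subtype.ext (by simpa using d.pow _ a.2)⟩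

theorem odd_orderOf (hr : r ≠ 2) {a : G} (ha : a ∈ d.F) : Odd (orderOf a) :=
  odd_orderOf_of_mem (Setting.odd_of_pGroup hr d.isP) ha

theorem norm_mem {x : G} (hx : x ∈ d.c.X) : x ∈ normalizer (d.F : Set G) := d.F_norm hx

/-- The centre of `F`. -/
def Y : Subgroup G := d.F ⊓ centralizer (d.F : Set G)

theorem mem_Y {y : G} : y ∈ d.Y ↔ y ∈ d.F ∧ ∀ f ∈ d.F, Commute y f := by
  rw [Y, Subgroup.mem_inf, mem_centralizer_iff]
  exact and_congr_right fun _ => ⟨fun h f hf => (h f hf).symm, fun h f hf => (h f hf).symm⟩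

theorem Y_le : d.Y ≤ d.F := inf_le_left

theorem Y_comm : ∀ a ∈ d.Y, ∀ b ∈ d.Y, a * b = b * a := fun _ ha b hb =>
  ((d.mem_Y.1 ha).2 b (d.Y_le hb)).eq

theorem comm_mem_Y {a b : G} (ha : a ∈ d.F) (hb : b ∈ d.F) : a * b * a⁻¹ * b⁻¹ ∈ d.Y :=
  d.mem_Y.2 ⟨mul_mem (mul_mem (mul_mem ha hb) (inv_mem ha)) (inv_mem hb),
    fun f hf => d.cent a ha b hb f hf⟩

theorem fixed_Y {y : G} (hy : y ∈ d.Y) : Commute d.t y ∧ Commute d.u y :=
  d.fixed y (d.Y_le hy) (d.mem_Y.1 hy).2

theorem Y_norm : d.c.X ≤ normalizer (d.Y : Set G) :=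
  (le_inf d.F_norm (d.F_norm.trans
    (CfsgLib.Signalizer.normalizer_le_normalizer_centralizer_set d.F))).trans
      CfsgLib.Transfer.normalizer_le_normalizer_inf

/-- A fixed element commutes with an inverted one. -/
theorem commute_fix_inv (hr : r ≠ 2) {x a b : G} (hx : x = d.t ∨ x = d.u ∨ x = d.t * d.u)
    (ha : a ∈ d.F) (hb : b ∈ d.F) (hxa : Commute x a) (hxb : x * b * x⁻¹ = b⁻¹) :
    Commute a b := by
  set e := a * b * a⁻¹ * b⁻¹ with he
  have heY : e ∈ d.Y := d.comm_mem_Y ha hb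
  have hxe : Commute x e := by
    obtain ⟨h1, h2⟩ := d.fixed_Y heY
    rcases hx with rfl | rfl | rfl
    exacts [h1, h2, h1.mul_left h2]
  have h3 : e⁻¹ = e := by
    have h4 : x * e * x⁻¹ = b⁻¹ * e⁻¹ * b := by
      rw [he, show x * (a * b * a⁻¹ * b⁻¹) * x⁻¹ =
        (x * a * x⁻¹) * (x * b * x⁻¹) * (x * a * x⁻¹)⁻¹ * (x * b * x⁻¹)⁻¹ by group,
        conj_eq_of_commute hxa, hxb]
      group
    rw [conj_eq_of_commute hxe] at h4
    have h5 : Commute e⁻¹ b := ((d.mem_Y.1 heY).2 b hb).inv_left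
    rw [show b⁻¹ * e⁻¹ * b = b⁻¹ * (e⁻¹ * b) by group, h5.eq, inv_mul_cancel_left] at h4
    exact h4.symm
  have h6 : e = 1 := eq_one_of_inv_self (d.odd_orderOf hr (d.Y_le heY)) h3
  exact commute_of_conj_eq (mul_inv_eq_one.1 h6)

/-- Every piece contains non-commuting elements. -/
theorem exists_noncomm (hr : r ≠ 2) :
    ∃ a b, Piece d.t d.u d.F a ∧ Piece d.t d.u d.F b ∧ ¬ Commute a b := by
  by_contra hno
  push Not at hno
  obtain ⟨⟨a, ha1, pa⟩, -, -⟩ := three_pieces (Setting.odd_of_pGroup hr d.isP) d.rot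
    (d.norm_mem d.ht) (d.norm_mem d.hu) (d.norm_mem d.hg) d.moved
  obtain ⟨hA, hexp, hcard⟩ := four_elementary d.rot.ht d.rot.hu d.rot.ne d.rot.comm
  have : Fact (Nat.Prime 2) := ⟨Nat.prime_two⟩
  have h2 : ¬ 2 ∣ Nat.card d.F := fun hd =>
    Nat.not_even_iff_odd.2 (Setting.odd_of_pGroup hr d.isP) (even_iff_two_dvd.2 hd)
  haveI := hA
  have hgen : d.F ≤ centralizer ({a} : Set G) := by
    refine CfsgLib.LocalEven.le_of_centralizers_le hexp hcard
      (four_le (d.norm_mem d.ht) (d.norm_mem d.hu)) h2 fun w hw hw1 => ?_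
    rintro f ⟨hf, hfw⟩
    refine mem_centralizer_of_commute ?_
    have hfw' : Commute w f := (commute_of_mem_centralizer hfw).symm
    rcases mem_four_cases d.rot.ht d.rot.hu d.rot.comm hw with e | e | e | e
    · exact absurd e hw1
    · subst e
      set e := f⁻¹ * (d.u * f * d.u⁻¹) with he
      have heF : e ∈ d.F := mul_mem (inv_mem hf) ((mem_normalizer_iff.1 (d.norm_mem d.hu) f).1 hf)
      have hte : Commute d.t e :=
        hfw'.inv_right.mul_right ((d.rot.comm.mul_right hfw').mul_right d.rot.comm.inv_right)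
      have hue : d.u * e * d.u⁻¹ = e⁻¹ := by
        rw [he, show d.u * (f⁻¹ * (d.u * f * d.u⁻¹)) * d.u⁻¹ =
          (d.u * f * d.u⁻¹)⁻¹ * ((d.u * d.u) * f * (d.u * d.u)⁻¹) by group, involution_sq d.rot.hu,
          mul_inv_rev f⁻¹]
        group
      obtain ⟨m, hm⟩ := exists_pow_eq_self_of_coprime (n := 2) (x := e)
        (Nat.coprime_two_left.2 (d.odd_orderOf hr heF))
      have hs : Piece d.t d.u d.F (e ^ m) := Piece.pow ⟨heF, hte, hue⟩ m
      have hfs : Commute d.u (f * e ^ m) := by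
        refine commute_of_conj_eq ?_
        have e2 : e ^ m * e ^ m = e := by rw [← pow_add, ← two_mul, pow_mul, hm]
        rw [← conj_mul, hs.2.2, show d.u * f * d.u⁻¹ = f * e by rw [he, mul_inv_cancel_left]]
        nth_rw 1 [← e2]
        group
      have h3 : Commute (f * e ^ m) a :=
        d.commute_fix_inv hr (Or.inr (Or.inl rfl)) (mul_mem hf (pow_mem heF m)) pa.1 hfs pa.2.2
      have h4 := h3.mul_left (hno a _ pa hs).symm.inv_left
      rwa [mul_inv_cancel_right] at h4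
    · subst e
      exact d.commute_fix_inv hr (Or.inr (Or.inl rfl)) hf pa.1 hfw' pa.2.2
    · subst e
      exact d.commute_fix_inv hr (Or.inr (Or.inr rfl)) hf pa.1 hfw' (by
        rw [show d.t * d.u * a * (d.t * d.u)⁻¹ = d.t * (d.u * a * d.u⁻¹) * d.t⁻¹ by group, pa.2.2]
        exact conj_eq_of_commute pa.2.1.inv_right)
  have haY : a ∈ d.Y :=
    d.mem_Y.2 ⟨pa.1, fun f hf => (commute_of_mem_centralizer (hgen hf)).symm⟩
  refine ha1 (eq_one_of_inv_self (d.odd_orderOf hr pa.1) ?_)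
  rw [← pa.2.2, conj_eq_of_commute (d.fixed_Y haY).2]

end Two

omit [Finite G] [Fact r.Prime] in
/-- The power of a product in a group of class two. -/
theorem mul_pow_class_two {x y : G} (hx : Commute (y * x * y⁻¹ * x⁻¹) x)
    (hy : Commute (y * x * y⁻¹ * x⁻¹) y) (n : ℕ) :
    (x * y) ^ n = x ^ n * y ^ n * (y * x * y⁻¹ * x⁻¹) ^ n.choose 2 ∧
      y ^ n * x = (y * x * y⁻¹ * x⁻¹) ^ n * x * y ^ n := by
  set c := y * x * y⁻¹ * x⁻¹ with hc
  induction n with
  | zero => simp
  | succ n ih =>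
    have hyx : y * x = c * x * y := by rw [hc]; group
    have h2 : y ^ (n + 1) * x = c ^ (n + 1) * x * y ^ (n + 1) := by
      calc y ^ (n + 1) * x = y * (y ^ n * x) := by rw [pow_succ', mul_assoc]
        _ = y * (c ^ n * x * y ^ n) := by rw [ih.2]
        _ = c ^ n * (y * x) * y ^ n := by
          rw [← mul_assoc, ← mul_assoc, ← (hy.pow_left n).eq, mul_assoc _ y x]
        _ = c ^ n * (c * x * y) * y ^ n := by rw [hyx]
        _ = c ^ (n + 1) * x * y ^ (n + 1) := by rw [pow_succ c, pow_succ' y]; group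
    refine ⟨?_, h2⟩
    rw [show (n + 1).choose 2 = n + n.choose 2 by rw [Nat.choose_succ_succ', Nat.choose_one_right]]
    calc (x * y) ^ (n + 1) = x ^ n * y ^ n * c ^ n.choose 2 * (x * y) := by rw [pow_succ, ih.1]
      _ = x ^ n * (y ^ n * x) * y * c ^ n.choose 2 := by
        rw [mul_assoc (x ^ n * y ^ n), ((hx.mul_right hy).pow_left _).eq]; group
      _ = x ^ n * (c ^ n * x * y ^ n) * y * c ^ n.choose 2 := by rw [ih.2]
      _ = x ^ n * (x * (y ^ n * c ^ n)) * y * c ^ n.choose 2 := by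
        rw [((hy.pow_left n).pow_right n).symm.eq, ← mul_assoc x, ← (hx.pow_left n).eq]
      _ = x ^ (n + 1) * y ^ n * (c ^ n * y) * c ^ n.choose 2 := by rw [pow_succ]; group
      _ = x ^ (n + 1) * y ^ n * (y * c ^ n) * c ^ n.choose 2 := by rw [(hy.pow_left n).eq]
      _ = x ^ (n + 1) * y ^ (n + 1) * c ^ (n + n.choose 2) := by rw [pow_succ y, pow_add]; group

/-- If no abelian invariant subgroup is moved, there is a datum of class two. -/
theorem exists_two (hr : r ≠ 2) (c : Ctx G r)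
    (hno : ∀ Z : Subgroup G, Z ≤ (c.R : Subgroup G) → c.X ≤ normalizer (Z : Set G) →
      (∀ a ∈ Z, ∀ b ∈ Z, a * b = b * a) → (∀ a ∈ Z, a ^ r = 1) →
        ∀ a ∈ Z, Commute c.t a ∧ Commute c.u a) :
    Nonempty (Two G r) := by
  classical
  let s : Set (Subgroup G) := {F | F ≤ (c.R : Subgroup G) ∧ c.X ≤ normalizer (F : Set G) ∧
    ¬ ∀ a ∈ F, Commute c.t a ∧ Commute c.u a}
  obtain ⟨F, ⟨hFR, hFX, hmov⟩, hmin⟩ := Set.exists_min_image s (fun F => Nat.card F)
    (Set.toFinite s) ⟨c.E, c.E_le, c.E_norm, c.not_cent⟩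
  have hFp : IsPGroup r F := c.R.2.to_le hFR
  have hFo : Odd (Nat.card F) := Setting.odd_of_pGroup hr hFp
  have hfix : ∀ K : Subgroup G, K ≤ F → K ≠ F → c.X ≤ normalizer (K : Set G) →
      ∀ a ∈ K, Commute c.t a ∧ Commute c.u a := by
    intro K hK hne hX
    by_contra h
    exact hne (eq_of_le_of_card_ge hK (hmin K ⟨hK.trans hFR, hX, h⟩))
  have hXc : ∀ {x : G}, x ∈ c.X → x ∈ normalizer (F : Set G) := fun hx => hFX hx
  -- proper invariant subgroups are central
  have hcentral : ∀ K : Subgroup G, K ≤ F → K ≠ F → c.X ≤ normalizer (K : Set G) →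
      ∀ k ∈ K, ∀ f ∈ F, Commute k f := by
    intro K hK hne hX k hk f hf
    have hKfix := hfix K hK hne hX
    set L := c.X ⊓ centralizer (K : Set G) with hL
    have hLX : c.X ≤ normalizer (L : Set G) :=
      (le_inf le_normalizer (hX.trans
        (CfsgLib.Signalizer.normalizer_le_normalizer_centralizer_set K))).trans
          CfsgLib.Transfer.normalizer_le_normalizer_inf
    have hDF : ⁅F, L⁆ ≤ F := by
      rw [commutator_le]
      intro a ha b hb
      rw [commutatorElement_def, show a * b * a⁻¹ * b⁻¹ = a * (b * a⁻¹ * b⁻¹) by group]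
      exact mul_mem ha ((mem_normalizer_iff.1 (hXc hb.1) _).1 (inv_mem ha))
    have hDX : c.X ≤ normalizer ((⁅F, L⁆ : Subgroup G) : Set G) := fun x hx =>
      CfsgLib.Transfer.map_conj_eq_self_iff.1 (by
        rw [map_commutator, CfsgLib.Transfer.map_conj_eq_self_iff.2 (hXc hx),
          CfsgLib.Transfer.map_conj_eq_self_iff.2 (hLX hx)])
    have hDeq : ⁅F, L⁆ = F := by
      by_contra hne'
      have hD := hfix _ hDF hne' hDX
      refine hmov fun a ha => ?_
      have key : ∀ x, x ∈ c.X → orderOf x = 2 → (∀ q ∈ K, Commute x q) →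
          (∀ q ∈ ⁅F, L⁆, Commute x q) → Commute x a := by
        intro x hx hxo hxK hxD
        have he : a * x * a⁻¹ * x⁻¹ ∈ ⁅F, L⁆ :=
          commutator_mem_commutator ha
            ⟨hx, mem_centralizer_iff.2 fun q hq => (hxK q hq).symm⟩
        have h1 := conj_eq_of_commute (hxD _ he)
        have h2 : x * (a * x * a⁻¹ * x⁻¹) * x⁻¹ = (a * x * a⁻¹ * x⁻¹)⁻¹ := by
          rw [involution_inv hxo, show x * (a * x * a⁻¹ * x) * x = x * a * x * a⁻¹ * (x * x) by group,
            involution_sq hxo, mul_one, mul_inv_rev, mul_inv_rev, mul_inv_rev, inv_inv,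
            involution_inv hxo]
          simp only [mul_assoc]
        have h3 := eq_one_of_inv_self (odd_orderOf_of_mem hFo (hDF he)) (h2.symm.trans h1)
        exact (commute_of_conj_eq (mul_inv_eq_one.1 h3)).symm
      exact ⟨key c.t c.ht c.rot.ht (fun q hq => (hKfix q hq).1) (fun q hq => (hD q hq).1),
        key c.u c.hu c.rot.hu (fun q hq => (hKfix q hq).2) (fun q hq => (hD q hq).2)⟩
    have h3 : ⁅⁅F, L⁆, K⁆ = ⊥ := by
      refine commutator_commutator_eq_bot_of_rotate ?_ ?_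
      · rw [show ⁅L, K⁆ = ⊥ from commutator_eq_bot_iff_le_centralizer.2 inf_le_right,
          commutator_bot_left]
      · have hKF' : ⁅K, F⁆ ≤ K := commutator_le.2 fun a ha b hb => by
          rw [commutatorElement_def, show a * b * a⁻¹ * b⁻¹ = a * (b * a⁻¹ * b⁻¹) by group]
          exact mul_mem ha ((mem_normalizer_iff.1 (hX (c.R_le (hFR hb))) _).1 (inv_mem ha))
        have hKL : ⁅K, L⁆ = ⊥ := commutator_eq_bot_iff_le_centralizer.2 fun a ha =>
          mem_centralizer_iff.2 fun b hb => (mem_centralizer_iff.1 hb.2 a ha).symm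
        exact le_bot_iff.1 ((commutator_mono hKF' le_rfl).trans hKL.le)
    rw [hDeq, commutator_eq_bot_iff_le_centralizer] at h3
    exact mem_centralizer_iff.1 (h3 hf) k hk
  -- the derived group
  have hFne : F ≠ ⊥ := fun e => hmov fun a ha => by
    rw [e, mem_bot] at ha; subst ha; exact ⟨Commute.one_right _, Commute.one_right _⟩
  have hF'le : ⁅F, F⁆ ≤ F := commutator_le.2 fun a ha b hb =>
    mul_mem (mul_mem (mul_mem ha hb) (inv_mem ha)) (inv_mem hb)
  have hF'ne : ⁅F, F⁆ ≠ F := by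
    haveI : Group.IsSolvable F := CfsgLib.OddLocal.FTFinal.odd_order_solvable hFo
    haveI : Nontrivial F := (nontrivial_iff_ne_bot F).2 hFne
    intro e
    refine (Group.IsSolvable.commutator_lt_top_of_nontrivial F).ne
      (map_injective F.subtype_injective ?_)
    rw [_root_.commutator_def, map_commutator, ← MonoidHom.range_eq_map, range_subtype, e]
  have hF'X : c.X ≤ normalizer ((⁅F, F⁆ : Subgroup G) : Set G) := fun x hx =>
    CfsgLib.Transfer.map_conj_eq_self_iff.1 (by
      rw [map_commutator, CfsgLib.Transfer.map_conj_eq_self_iff.2 (hXc hx)])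
  have hcent : ∀ a ∈ F, ∀ b ∈ F, ∀ f ∈ F, Commute (a * b * a⁻¹ * b⁻¹) f := fun a ha b hb f hf =>
    hcentral _ hF'le hF'ne hF'X _ (commutator_mem_commutator ha hb) f hf
  -- exponent `r`
  set K := closure {x | x ∈ F ∧ x ^ r = 1} with hK
  have hKF : K ≤ F := (closure_le F).2 fun x hx => hx.1
  have hKpow : ∀ x ∈ K, x ^ r = 1 := by
    intro x hx
    induction hx using closure_induction with
    | mem x hx => exact hx.2
    | one => exact one_pow r
    | mul x y hx hy ihx ihy =>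
      have hxF := hKF hx
      have hyF := hKF hy
      obtain ⟨h1, h2⟩ := mul_pow_class_two (hcent y hyF x hxF x hxF) (hcent y hyF x hxF y hyF) r
      rw [ihy, one_mul, mul_one] at h2
      have hc : (y * x * y⁻¹ * x⁻¹) ^ r = 1 := mul_eq_right.1 h2.symm
      obtain ⟨k, hk⟩ : r ∣ r.choose 2 := (Fact.out : r.Prime).dvd_choose_self two_ne_zero
        (lt_of_le_of_ne (Fact.out : r.Prime).two_le (Ne.symm hr))
      rw [h1, ihx, ihy, hk, pow_mul, hc, one_pow, one_mul, one_mul]
    | inv x _ ih => rw [inv_pow, ih, inv_one]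
  have hKeq : K = F := by
    by_contra hne
    have hKX : c.X ≤ normalizer (K : Set G) := fun x hx =>
      CfsgLib.Transfer.map_conj_eq_self_iff.1 (by
        rw [hK, MonoidHom.map_closure]
        refine congrArg Subgroup.closure (Set.ext fun y => ⟨?_, fun hy => ?_⟩)
        · rintro ⟨z, hz, rfl⟩
          exact ⟨(mem_normalizer_iff.1 (hXc hx) z).1 hz.1,
            by rw [← map_pow, hz.2, map_one]⟩
        · refine ⟨x⁻¹ * y * x, ⟨?_, ?_⟩, ?_⟩
          · simpa using (mem_normalizer_iff.1 (inv_mem (hXc hx)) y).1 hy.1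
          · rw [show x⁻¹ * y * x = x⁻¹ * y * x⁻¹⁻¹ by group, conj_pow, hy.2, mul_one, mul_inv_cancel]
          · show x * (x⁻¹ * y * x) * x⁻¹ = y
            group)
    have hKfix := hfix K hKF hne hKX
    obtain ⟨⟨a, ha1, pa⟩, -, -⟩ :=
      three_pieces hFo c.rot (hXc c.ht) (hXc c.hu) (hXc c.hg) hmov
    obtain ⟨k, hk⟩ := (IsPGroup.iff_orderOf.1 hFp) ⟨a, pa.1⟩
    rw [← Subgroup.orderOf_coe] at hk
    simp only at hk
    obtain _ | k := k
    · rw [pow_zero, orderOf_eq_one_iff] at hk; exact ha1 hk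
    have hb1 : a ^ r ^ k ≠ 1 := fun h => by
      have := orderOf_dvd_of_pow_eq_one h
      rw [hk] at this
      exact absurd ((Nat.pow_dvd_pow_iff_le_right (Fact.out : r.Prime).one_lt).1 this) (by omega)
    have hbK : a ^ r ^ k ∈ K := subset_closure
      ⟨pow_mem pa.1 _, by rw [← pow_mul, ← pow_succ, ← hk, pow_orderOf_eq_one]⟩
    refine hb1 (eq_one_of_inv_self (odd_orderOf_of_mem hFo (pow_mem pa.1 _)) ?_)
    rw [← (pa.pow (r ^ k)).2.2, conj_eq_of_commute (hKfix _ hbK).2]
  have hpow : ∀ a ∈ F, a ^ r = 1 := fun a ha => hKpow a (hKeq.ge ha)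
  refine ⟨{ c := c, F := F, t := c.t, u := c.u, g := c.g, rot := c.rot, ht := c.ht, hu := c.hu,
            hg := c.hg, F_le := hFR, F_norm := hFX, pow := hpow, cent := hcent,
            fixed := ?_, moved := hmov }⟩
  intro y hy hyc
  set Z := F ⊓ centralizer (F : Set G) with hZ
  have hZX : c.X ≤ normalizer (Z : Set G) :=
    (le_inf hFX (hFX.trans (CfsgLib.Signalizer.normalizer_le_normalizer_centralizer_set F))).trans
      CfsgLib.Transfer.normalizer_le_normalizer_inf
  refine hno Z (inf_le_left.trans hFR) hZX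
    (fun a ha b hb => (mem_centralizer_iff.1 ha.2 b hb.1).symm) (fun a ha => hpow a ha.1) y
    ⟨hy, mem_centralizer_iff.2 fun f hf => (hyc f hf).symm⟩

end CfsgLib.GW.Sig
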