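import Cfsg.Agent.Lib.GW.Sig.ClassTwo.Basic

/-!
# Constrained centralisers in the case of class two

`N(Y) = θ X` and `F` lies in the core of every `C(y)`, `y ∈ Y`.  So an element of `F` whose
centraliser is not constrained gives an involution of `X` centralising too much of `F`.
-/

set_option autoImplicit false

namespace CfsgLib.GW.Sig

open Subgroup Cfsg
open CfsgLib.Signalizer (involution_sq involution_inv involution_ne_one orderOf_conj)

universe u

variable {G : Type u} [Group G] [Finite G] {r : ℕ} [Fact r.Prime]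

namespace Two

variable (d : Two G r)

theorem pieces (hr : r ≠ 2) :
    (∃ a, a ≠ 1 ∧ Piece d.t d.u d.F a) ∧ (∃ a, a ≠ 1 ∧ Piece d.u d.t d.F a) ∧
      (∃ a, a ≠ 1 ∧ Piece (d.t * d.u) d.t d.F a) :=
  three_pieces (Setting.odd_of_pGroup hr d.isP) d.rot (d.norm_mem d.ht) (d.norm_mem d.hu)
    (d.norm_mem d.hg) d.moved

theorem Y_p : IsPGroup r d.Y := d.isP.to_le d.Y_le

theorem R_le_X : (d.c.R : Subgroup G) ≤ d.c.X := d.c.R_le

theorem F_le_X : d.F ≤ d.c.X := d.F_le.trans d.c.R_le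

theorem Y_wclosed (S : Std G r) : WClosed r d.Y :=
  d.c.wclosed S.odd S.noQd (d.Y_le.trans d.F_le) d.Y_norm

/-- A non-trivial commutator of two elements of a piece. -/
theorem exists_Y_ne_one (hr : r ≠ 2) : ∃ y ∈ d.Y, y ≠ 1 := by
  obtain ⟨a, b, pa, pb, hne⟩ := d.exists_noncomm hr
  exact ⟨_, d.comm_mem_Y pa.1 pb.1,
    fun e => hne (commute_of_conj_eq (mul_inv_eq_one.1 e))⟩

include d in
theorem centralizer_ne_top (S : Std G r) {a : G} (ha : a ≠ 1) :
    centralizer ({a} : Set G) ≠ ⊤ := by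
  haveI := S.simple
  intro h
  have hac : a ∈ center G := mem_center_iff.2 fun x =>
    mem_centralizer_singleton_iff.1 (h ▸ mem_top x)
  rcases (show (center G).Normal from inferInstance).eq_bot_or_eq_top with e | e
  · exact ha (mem_bot.1 (e ▸ hac))
  · obtain ⟨b, hb1, pb⟩ := (d.pieces S.odd).1
    refine hb1 (eq_one_of_inv_self (d.odd_orderOf S.odd pb.1) ?_)
    rw [← pb.2.2, conj_eq_of_commute
      (show Commute d.u b from (mem_center_iff.1 (e ▸ mem_top b) d.u))]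

theorem NY_ne_top (S : Std G r) : normalizer (d.Y : Set G) ≠ ⊤ := by
  haveI := S.simple
  obtain ⟨y, hy, hy1⟩ := d.exists_Y_ne_one S.odd
  exact Sig.normalizer_ne_top (fun e => hy1 (mem_bot.1 (e ▸ hy)))
    (Setting.odd_of_pGroup S.odd d.Y_p) (d.rot.ht ▸ orderOf_dvd_natCard d.t)

theorem NY_constrained (S : Std G r) : Constrained r (normalizer (d.Y : Set G)) := by
  obtain ⟨h1, h2, h3⟩ := d.pieces S.odd
  exact constrained_of_pieces S.base S.facts S.odd (d.NY_ne_top S) d.isP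
    (d.F_le_X.trans d.Y_norm) d.rot.ht d.rot.hu d.rot.ne d.rot.comm (d.Y_norm d.ht) (d.Y_norm d.hu)
    h1 h2 h3

/-- Elements of `Y` have constrained centralisers. -/
theorem constrained_Y (S : Std G r) {y : G} (hy : y ∈ d.Y) (hy1 : y ≠ 1) :
    Constrained r (centralizer ({y} : Set G)) := by
  obtain ⟨h1, h2, h3⟩ := d.pieces S.odd
  exact constrained_of_pieces S.base S.facts S.odd (d.centralizer_ne_top S hy1) d.isP
    (fun f hf => mem_centralizer_of_commute ((d.mem_Y.1 hy).2 f hf).symm) d.rot.ht d.rot.hu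
    d.rot.ne d.rot.comm (mem_centralizer_of_commute (d.fixed_Y hy).1)
    (mem_centralizer_of_commute (d.fixed_Y hy).2) h1 h2 h3

/-- `O_{r'}(O(N(Y)))`. -/
noncomputable def θY : Subgroup G := thetaOf r (normalizer (d.Y : Set G))

theorem θY_commute {k y : G} (hk : k ∈ d.θY) (hy : y ∈ d.Y) : Commute k y := by
  have hkN := thetaOf_le r _ hk
  refine commute_of_conj_eq (mul_inv_eq_one.1 (eq_one_of_mem_thetaOf
    (H := normalizer (d.Y : Set G)) d.Y_p
    (mul_mem ((mem_normalizer_iff.1 hkN y).1 hy) (inv_mem hy)) ?_))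
  rw [show k * y * k⁻¹ * y⁻¹ = k * (y * k⁻¹ * y⁻¹) by group]
  exact mul_mem hk (conj_mem_thetaOf (le_normalizer (le_normalizer hy)) (inv_mem hk))

theorem θY_normalizer : normalizer (d.Y : Set G) ≤ normalizer (d.θY : Set G) :=
  le_normalizer_thetaOf r _

/-- `N(Y) = θ X`. -/
theorem NY_le (S : Std G r) : normalizer (d.Y : Set G) ≤ d.θY ⊔ d.c.X := by
  set H := normalizer (d.Y : Set G) with hH
  have hRH : (d.c.R : Subgroup G) ≤ H := d.R_le_X.trans d.Y_norm
  have hR : ((d.c.R.subtype hRH : Sylow r H) : Subgroup H).map H.subtype = d.c.R := by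
    rw [Sylow.coe_subtype, map_subgroupOf_eq_of_le hRH]
  have hfac := zj_factor_constrained S.odd S.noQd (d.NY_constrained S) (d.c.R.subtype hRH)
  rw [hR] at hfac
  set θ₀ := thetaOf r (normalizer (centerThompsonAOf (d.c.R : Subgroup G) : Set G)) with hθ₀
  refine hfac.trans (sup_le le_sup_left ?_)
  rintro n ⟨hnH, hnZ⟩
  have hsup : n ∈ θ₀ ⊔ d.c.X := d.c.factor hnZ
  rw [sup_comm] at hsup
  obtain ⟨x, hx, k, hk, rfl⟩ := (CfsgLib.Core.mem_sup_iff_mul
    (d.c.X_le.trans (le_normalizer_thetaOf r _))).1 hsup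
  refine mul_mem (mem_sup_right hx) (mem_sup_left ?_)
  have hkH : k ∈ H := by simpa using mul_mem (inv_mem (d.Y_norm hx)) hnH
  refine (le_thetaOf_of_invariant S.odd S.noQd (d.NY_constrained S) (R := d.c.R.subtype hRH)
    (Y := θ₀ ⊓ H) inf_le_right ((coprime_thetaOf r _).coprime_dvd_left (card_dvd_of_le inf_le_left))
    ?_ : θ₀ ⊓ H ≤ d.θY) ⟨hk, hkH⟩
  rw [hR]
  exact (le_inf (d.R_le_X.trans (d.c.X_le.trans (le_normalizer_thetaOf r _)))
    (hRH.trans le_normalizer)).trans CfsgLib.Transfer.normalizer_le_normalizer_inf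

/-- The odd normal subgroup of `C(y)` containing `F`. -/
theorem exists_odd_normal (S : Std G r) {y : G} (hy : y ∈ d.Y) (hy1 : y ≠ 1) :
    ∃ Q : Subgroup G, Q ≤ centralizer ({y} : Set G) ∧ Odd (Nat.card Q) ∧
      centralizer ({y} : Set G) ≤ normalizer (Q : Set G) ∧ d.F ≤ Q := by
  set C := centralizer ({y} : Set G) with hC
  have hYC : d.Y ≤ C := fun z hz => mem_centralizer_of_commute (d.Y_comm z hz y hy)
  obtain ⟨hfac, -⟩ := factor_of_wclosed S.odd S.noQd (d.constrained_Y S hy hy1) d.Y_p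
    (d.Y_wclosed S) d.Y_comm hYC
  set N := normalizer (d.Y : Set G) with hN
  set K := d.θY ⊔ d.F with hK
  have hFC : d.F ≤ C := fun f hf => mem_centralizer_of_commute ((d.mem_Y.1 hy).2 f hf).symm
  have hKC : K ≤ C := sup_le (fun k hk => mem_centralizer_of_commute (d.θY_commute hk hy)) hFC
  have hKN : N ≤ normalizer (K : Set G) := by
    refine (d.NY_le S).trans (sup_le (le_sup_left.trans le_normalizer) fun x hx => ?_)
    refine CfsgLib.Transfer.map_conj_eq_self_iff.1 ?_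
    rw [hK, Subgroup.map_sup, CfsgLib.Transfer.map_conj_eq_self_iff.2 (d.norm_mem hx),
      CfsgLib.Transfer.map_conj_eq_self_iff.2 (d.θY_normalizer (d.Y_norm hx))]
  have hKo : Odd (Nat.card K) := by
    rw [← Nat.coprime_two_right, hK, sup_comm]
    exact CfsgLib.Core.coprime_card_sup
      ((d.F_le_X.trans d.Y_norm).trans d.θY_normalizer)
      (Nat.coprime_two_right.2 (Setting.odd_of_pGroup S.odd d.isP))
      (Nat.coprime_two_right.2 (odd_thetaOf r _))
  refine ⟨thetaOf r C ⊔ K, sup_le (thetaOf_le r C) hKC, ?_, ?_,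
    le_sup_of_le_right le_sup_right⟩
  · rw [← Nat.coprime_two_right, sup_comm]
    exact CfsgLib.Core.coprime_card_sup (hKC.trans (le_normalizer_thetaOf r C))
      (Nat.coprime_two_right.2 hKo) (Nat.coprime_two_right.2 (odd_thetaOf r C))
  · refine hfac.trans (sup_le (le_sup_left.trans le_normalizer) fun x hx => ?_)
    refine CfsgLib.Transfer.map_conj_eq_self_iff.1 ?_
    rw [Subgroup.map_sup, CfsgLib.Transfer.map_conj_eq_self_iff.2 (le_normalizer_thetaOf r C hx.1),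
      CfsgLib.Transfer.map_conj_eq_self_iff.2 (hKN hx.2)]

/-- The centraliser of `h` is constrained when it contains a non-commuting pair fixed or inverted by
an involution normalising it, and a set which no involution of the four-group centralises. -/
theorem constrained_of_sets (S : Std G r) {h : G} (hh : h ∈ d.F) (hh1 : h ≠ 1) {x : G}
    (hxo : orderOf x = 2) (hxH : x ∈ normalizer (centralizer ({h} : Set G) : Set G)) {b b' : G}
    (hb : b ∈ d.F) (hb' : b' ∈ d.F) (hbh : Commute b h) (hb'h : Commute b' h) (hne : ¬ Commute b b')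
    (hx : (Commute x b ∧ Commute x b') ∨ (x * b * x⁻¹ = b⁻¹ ∧ x * b' * x⁻¹ = b'⁻¹))
    (s : Set G) (hs : ∀ a ∈ s, a ∈ d.F ∧ Commute a h)
    (hinv : ∀ w, w = d.t ∨ w = d.u → ∀ a ∈ s, w * a * w⁻¹ = a ∨ w * a * w⁻¹ = a⁻¹)
    (hmove : (∃ a ∈ s, ¬ Commute d.t a) ∧ (∃ a ∈ s, ¬ Commute d.u a) ∧
      ∃ a ∈ s, ¬ Commute (d.t * d.u) a) :
    Constrained r (centralizer ({h} : Set G)) := by
  classical
  by_contra hnc
  set H := centralizer ({h} : Set G) with hH
  have hI := innerLike hnc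
  set F₁ := closure ({b, b'} : Set G) with hF₁
  have hbH : b ∈ H := mem_centralizer_of_commute hbh
  have hb'H : b' ∈ H := mem_centralizer_of_commute hb'h
  have hF₁H : F₁ ≤ H := (closure_le H).2 (by simp [Set.insert_subset_iff, hbH, hb'H])
  have hF₁F : F₁ ≤ d.F := (closure_le d.F).2 (by simp [Set.insert_subset_iff, hb, hb'])
  -- a commutator in the core
  set e := b * b' * b⁻¹ * b'⁻¹ with he
  have heO : e ∈ oddOf H := by
    refine S.facts.expAbel H F₁ (d.centralizer_ne_top S hh1) hF₁H (fun a ha => d.pow a (hF₁F ha)) x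
      hxo hxH ?_ b (subset_closure (by simp)) b' (subset_closure (by simp))
    rcases hx with ⟨h1, h2⟩ | ⟨h1, h2⟩
    · refine Or.inl fun a ha => ?_
      have hle : F₁ ≤ centralizer ({x} : Set G) := (closure_le _).2 (by
        intro z hz
        rcases hz with rfl | rfl
        · exact mem_centralizer_of_commute h1.symm
        · exact mem_centralizer_of_commute h2.symm)
      exact commute_of_mem_centralizer (hle ha)
    · refine Or.inr ((closure_le _).2 ?_)
      intro z hz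
      rcases hz with rfl | rfl
      · exact subset_closure ⟨subset_closure (by simp), h1⟩
      · exact subset_closure ⟨subset_closure (by simp), h2⟩
  have heY : e ∈ d.Y := d.comm_mem_Y hb hb'
  have he1 : e ≠ 1 := fun h => hne (commute_of_conj_eq (mul_inv_eq_one.1 h))
  obtain ⟨Q, hQC, hQo, hQn, hFQ⟩ := d.exists_odd_normal S heY he1
  -- the inner part centralises `F ⊓ H` modulo the core
  set C := centralizer ({e} : Set G) with hC
  set Q' := Q ⊓ H with hQ'
  have hQ'o : Odd (Nat.card Q') := hQo.of_dvd_nat (card_dvd_of_le inf_le_left)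
  have heH : e ∈ H := oddOf_le H heO
  have hQinv : ∀ y ∈ inner r H, TwoElt y → ∀ q ∈ Q', y * q * y⁻¹ ∈ Q' ⊔ oddOf H := by
    intro y hy h2 q hq
    have hyf := mem_fixCore_of_inner hy h2
    have hcop : (Nat.card (zpowers e)).Coprime (Nat.card (thetaOf r H)) := by
      obtain ⟨k, hk⟩ := IsPGroup.iff_card.1 (d.Y_p.to_le (zpowers_le.2 heY))
      exact hk ▸ ((coprime_thetaOf r H).pow_right k).symm
    obtain ⟨y', hy'H, hy'C, -, hy'θ, -⟩ := exists_lift (B := zpowers e)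
      (zpowers_le.2 (le_normalizer heH)) hcop hyf.1 h2 (by
        intro c hc
        rw [show c * y * c⁻¹ * y⁻¹ = (y * c * y⁻¹ * c⁻¹)⁻¹ by group]
        exact inv_mem (hyf.2 c (zpowers_le.2 heO hc)))
    have hy'C' : y' ∈ C :=
      mem_centralizer_of_commute (mem_centralizer_iff.1 hy'C e (mem_zpowers e)).symm
    have h1 : y' * q * y'⁻¹ ∈ Q' :=
      Subgroup.mem_inf.2 ⟨(mem_normalizer_iff.1 (hQn hy'C') q).1 hq.1,
        mul_mem (mul_mem hy'H hq.2) (inv_mem hy'H)⟩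
    have ho : y * y'⁻¹ ∈ oddOf H := thetaOf_le_oddOf r H (by
      rw [show y * y'⁻¹ = (y' * y⁻¹)⁻¹ by group]; exact inv_mem hy'θ)
    rw [show y * q * y⁻¹ = (y * y'⁻¹) * (y' * q * y'⁻¹) * (y * y'⁻¹)⁻¹ by group]
    exact mul_mem (mul_mem (mem_sup_right ho) (mem_sup_left h1)) (mem_sup_right (inv_mem ho))
  -- an involution centralising `F ⊓ H`
  set A := d.F ⊓ H with hA
  simp only [Constrained, not_forall, not_not] at hnc
  obtain ⟨x₀, hx₀, hx₀o⟩ := hnc
  have h20 := twoElt_of_involution hx₀o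
  have hx₀N : x₀ ∈ inner r H := mem_sup_right (subset_closure ⟨hx₀, h20⟩)
  have hfixA : ∀ a ∈ A, a * x₀ * a⁻¹ * x₀⁻¹ ∈ thetaOf r H := fun a ha =>
    comm_mem_thetaOf hx₀ h20 (le_normalizer ha.2) (by
      rw [show a * x₀ * a⁻¹ * x₀⁻¹ = (x₀ * a * x₀⁻¹ * a⁻¹)⁻¹ by group]
      exact inv_mem (comm_mem_oddOf hI inf_le_right hQ'o hQinv hx₀N h20 ⟨hFQ ha.1, ha.2⟩))
  have hcopA : (Nat.card A).Coprime (Nat.card (thetaOf r H)) := by
    obtain ⟨k, hk⟩ := IsPGroup.iff_card.1 (d.isP.to_le (inf_le_left : A ≤ d.F))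
    exact hk ▸ ((coprime_thetaOf r H).pow_right k).symm
  obtain ⟨x', -, hx'C, -, -, hx'o⟩ :=
    exists_lift ((inf_le_right : A ≤ H).trans le_normalizer) hcopA (fixCore_le r H hx₀) h20 hfixA
  have hx'2 := hx'o hx₀o
  have hYA : d.Y ≤ A := fun y hy =>
    ⟨d.Y_le hy, mem_centralizer_of_commute ((d.mem_Y.1 hy).2 h hh)⟩
  have hx'Y : x' ∈ normalizer (d.Y : Set G) := mem_normalizer_of_conj fun y hy => by
    rw [conj_eq_of_commute (show Commute x' y from (mem_centralizer_iff.1 hx'C y (hYA hy)).symm)]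
    exact hy
  obtain ⟨x₂, hx₂, k, hk, e'⟩ := (CfsgLib.Core.mem_sup_iff_mul
    (d.Y_norm.trans d.θY_normalizer)).1 (by rw [sup_comm]; exact d.NY_le S hx'Y :
      x' ∈ d.c.X ⊔ d.θY)
  set C₁ := d.c.X ⊓ centralizer s with hC₁
  -- the component in `X` centralises `A`
  have hx₂A : x₂ ∈ C₁ := by
    refine ⟨hx₂, mem_centralizer_iff.2 fun a ha => ?_⟩
    have haA : a ∈ A := ⟨(hs a ha).1, mem_centralizer_of_commute (hs a ha).2⟩
    have hax : a * x' = x' * a := mem_centralizer_iff.1 hx'C a haA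
    have haN : a ∈ normalizer (d.Y : Set G) := d.Y_norm (d.F_le_X haA.1)
    have hx₂N : x₂ ∈ normalizer (d.Y : Set G) := d.Y_norm hx₂
    refine (show Commute x₂ a from commute_of_conj_eq (mul_inv_eq_one.1 (eq_one_of_mem_thetaOf
      (H := normalizer (d.Y : Set G)) d.isP
      (mul_mem ((mem_normalizer_iff.1 (d.norm_mem hx₂) a).1 haA.1) (inv_mem haA.1)) ?_))).symm.eq
    have hx₂e : x₂ = x' * k⁻¹ := by rw [e', mul_inv_cancel_right]
    have h2 : x₂ * a * x₂⁻¹ * a⁻¹ = x' * (k⁻¹ * (a * k * a⁻¹)) * x'⁻¹ := by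
      rw [hx₂e]
      calc x' * k⁻¹ * a * (x' * k⁻¹)⁻¹ * a⁻¹ = x' * k⁻¹ * a * k * (x'⁻¹ * a⁻¹) := by group
        _ = x' * k⁻¹ * a * k * (a⁻¹ * x'⁻¹) := by
          rw [← mul_inv_rev, ← mul_inv_rev, hax]
        _ = _ := by group
    rw [h2]
    exact (mem_normalizer_iff.1 (d.θY_normalizer hx'Y) _).1
      (mul_mem (inv_mem hk) ((mem_normalizer_iff.1 (d.θY_normalizer haN) k).1 hk))
  have hC₁e : ¬ Odd (Nat.card C₁) := by
    intro ho
    have hodd : Odd (Nat.card (C₁ ⊔ d.θY : Subgroup G)) := by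
      rw [← Nat.coprime_two_right]
      exact CfsgLib.Core.coprime_card_sup
        ((inf_le_left.trans d.Y_norm).trans d.θY_normalizer)
        (Nat.coprime_two_right.2 ho) (Nat.coprime_two_right.2 (odd_thetaOf r _))
    exact involution_ne_one hx'2 ((twoElt_of_involution hx'2).eq_one_of_mem hodd
      (e' ▸ mul_mem (mem_sup_left hx₂A) (mem_sup_right hk)))
  have hC₁n : ∀ w, w = d.t ∨ w = d.u → w ∈ d.c.X → orderOf w = 2 →
      w ∈ normalizer (C₁ : Set G) := fun w hw hwX hwo => by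
    refine CfsgLib.Transfer.normalizer_le_normalizer_inf
      (Subgroup.mem_inf.2 ⟨le_normalizer hwX, mem_normalizer_of_conj fun z hz => ?_⟩)
    refine mem_centralizer_iff.2 fun a ha => ?_
    have hza : Commute z (w * a * w⁻¹) := by
      rcases hinv w hw a ha with e | e <;> rw [e]
      · exact (mem_centralizer_iff.1 hz a ha).symm
      · exact (show Commute z a from (mem_centralizer_iff.1 hz a ha).symm).inv_right
    have h1 := hza.map (MulAut.conj w).toMonoidHom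
    simp only [MulEquiv.coe_toMonoidHom, MulAut.conj_apply] at h1
    rw [show w * (w * a * w⁻¹) * w⁻¹ = (w * w) * a * (w * w)⁻¹ by group, involution_sq hwo,
      one_mul, inv_one, mul_one] at h1
    exact h1.symm.eq
  obtain ⟨⟨a₁, ha₁, h1⟩, ⟨a₂, ha₂, h2⟩, ⟨a₃, ha₃, h3⟩⟩ := hmove
  rcases S.base.four_meets hC₁e d.rot.ht d.rot.hu d.rot.ne d.rot.comm
    (hC₁n d.t (Or.inl rfl) d.ht d.rot.ht) (hC₁n d.u (Or.inr rfl) d.hu d.rot.hu) with hw | hw | hw
  · exact h1 (mem_centralizer_iff.1 hw.2 a₁ ha₁).symm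
  · exact h2 (mem_centralizer_iff.1 hw.2 a₂ ha₂).symm
  · exact h3 (mem_centralizer_iff.1 hw.2 a₃ ha₃).symm

theorem not_commute_of_inverted (hr : r ≠ 2) {w a : G} (ha : a ∈ d.F) (ha1 : a ≠ 1)
    (h : w * a * w⁻¹ = a⁻¹) : ¬ Commute w a := fun hc =>
  ha1 (eq_one_of_inv_self (d.odd_orderOf hr ha) (by rw [← h, conj_eq_of_commute hc]))

/-- Elements fixed by `t` have constrained centralisers. -/
theorem constrained_fixed (S : Std G r) {a : G} (ha : a ∈ d.F) (ha1 : a ≠ 1)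
    (hat : Commute d.t a) : Constrained r (centralizer ({a} : Set G)) := by
  obtain ⟨b, b', pb, pb', hne⟩ := d.next.exists_noncomm S.odd
  obtain ⟨-, ⟨b₂, hb₂, p₂⟩, ⟨b₃, hb₃, p₃⟩⟩ := d.pieces S.odd
  have hpt : ∀ {z : G}, Piece d.next.t d.next.u d.next.F z → d.t * z * d.t⁻¹ = z⁻¹ :=
    fun {z} pz => by
      have e1 : d.t * d.u * z * (d.t * d.u)⁻¹ = z⁻¹ := pz.2.2
      have e2 : d.u * z * d.u⁻¹ = z := conj_eq_of_commute pz.2.1
      rwa [show d.t * d.u * z * (d.t * d.u)⁻¹ = d.t * (d.u * z * d.u⁻¹) * d.t⁻¹ by group, e2] at e1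
  have hcomm : ∀ {z : G}, z ∈ d.F → d.t * z * d.t⁻¹ = z⁻¹ → Commute z a := fun hz h =>
    (d.commute_fix_inv S.odd (Or.inl rfl) ha hz hat h).symm
  have h3u : d.u * b₃ * d.u⁻¹ = b₃⁻¹ := by
    have h := p₃.mul_right.2.2
    rwa [show d.t * (d.t * d.u) = d.u by rw [← mul_assoc, involution_sq d.rot.ht, one_mul]] at h
  refine d.constrained_of_sets S ha ha1 d.rot.ht (le_normalizer (mem_centralizer_of_commute hat))
    pb.1 pb'.1 (hcomm pb.1 (hpt pb)) (hcomm pb'.1 (hpt pb')) hne (Or.inr ⟨hpt pb, hpt pb'⟩)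
    {b₂, b₃} ?_ ?_ ⟨⟨b₂, Or.inl rfl, d.not_commute_of_inverted S.odd p₂.1 hb₂ p₂.2.2⟩,
      ⟨b₃, Or.inr rfl, d.not_commute_of_inverted S.odd p₃.1 hb₃ h3u⟩,
      ⟨b₂, Or.inl rfl, d.not_commute_of_inverted S.odd p₂.1 hb₂ ?_⟩⟩
  · rintro z (rfl | rfl)
    exacts [⟨p₂.1, hcomm p₂.1 p₂.2.2⟩, ⟨p₃.1, hcomm p₃.1 p₃.2.2⟩]
  · rintro w (rfl | rfl) z (rfl | rfl)
    exacts [Or.inr p₂.2.2, Or.inr p₃.2.2, Or.inl (conj_eq_of_commute p₂.2.1), Or.inr h3u]
  · rw [show d.t * d.u * b₂ * (d.t * d.u)⁻¹ = d.t * (d.u * b₂ * d.u⁻¹) * d.t⁻¹ by group,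
      conj_eq_of_commute p₂.2.1, p₂.2.2]

/-- Products of elements of two pieces have constrained centralisers. -/
theorem constrained_mul (S : Std G r) {b c : G} (pb : Piece d.t d.u d.F b) (hb1 : b ≠ 1)
    (pc : Piece d.u d.t d.F c) (hc1 : c ≠ 1) :
    Constrained r (centralizer ({b * c} : Set G)) := by
  obtain ⟨a, a', pa, pa', hne⟩ := d.next.next.exists_noncomm S.odd
  have htu : d.u * (d.t * d.u) = d.t := by
    rw [d.rot.comm.eq, ← mul_assoc, involution_sq d.rot.hu, one_mul]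
  have hpa : ∀ {z : G}, Piece d.next.next.t d.next.next.u d.next.next.F z →
      Commute (d.t * d.u) z ∧ d.t * z * d.t⁻¹ = z⁻¹ ∧ d.u * z * d.u⁻¹ = z⁻¹ := fun {z} pz => by
    have e1 : Commute (d.t * d.u) z := pz.2.1
    have e2 : d.u * (d.t * d.u) * z * (d.u * (d.t * d.u))⁻¹ = z⁻¹ := pz.2.2
    rw [htu] at e2
    refine ⟨e1, e2, ?_⟩
    have e3 : d.t * d.t * (d.u * z * d.u⁻¹) * (d.t * d.t)⁻¹ = d.t * z * d.t⁻¹ := by
      calc d.t * d.t * (d.u * z * d.u⁻¹) * (d.t * d.t)⁻¹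
          = d.t * (d.t * d.u * z * (d.t * d.u)⁻¹) * d.t⁻¹ := by group
        _ = _ := by rw [conj_eq_of_commute e1]
    rwa [involution_sq d.rot.ht, one_mul, inv_one, mul_one, e2] at e3
  have hbc : Commute b c := d.commute_fix_inv S.odd (Or.inl rfl) pb.1 pc.1 pb.2.1 pc.2.2
  have hh1 : b * c ≠ 1 := fun h => by
    refine d.not_commute_of_inverted S.odd pc.1 hc1 pc.2.2 ?_
    rw [eq_inv_of_mul_eq_one_right h]
    exact pb.2.1.inv_right
  have hxb : d.t * d.u * b * (d.t * d.u)⁻¹ = b⁻¹ := by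
    rw [show d.t * d.u * b * (d.t * d.u)⁻¹ = d.t * (d.u * b * d.u⁻¹) * d.t⁻¹ by group, pb.2.2]
    exact conj_eq_of_commute pb.2.1.inv_right
  have hxc : d.t * d.u * c * (d.t * d.u)⁻¹ = c⁻¹ := by
    rw [show d.t * d.u * c * (d.t * d.u)⁻¹ = d.t * (d.u * c * d.u⁻¹) * d.t⁻¹ by group,
      conj_eq_of_commute pc.2.1, pc.2.2]
  have hxh : d.t * d.u * (b * c) * (d.t * d.u)⁻¹ = (b * c)⁻¹ := by
    rw [← conj_mul, hxb, hxc, mul_inv_rev, hbc.inv_left.inv_right.eq]
  have hxH : d.t * d.u ∈ normalizer (centralizer ({b * c} : Set G) : Set G) :=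
    mem_normalizer_of_conj fun z hz => mem_centralizer_of_commute (by
      have h1 := (commute_of_mem_centralizer hz).map (MulAut.conj (d.t * d.u)).toMonoidHom
      have h2 : (MulAut.conj (d.t * d.u)).toMonoidHom (b * c) = (b * c)⁻¹ := hxh
      rw [h2] at h1
      simpa [mul_assoc] using h1.inv_right)
  have hca : ∀ {z : G}, Piece d.next.next.t d.next.next.u d.next.next.F z → Commute z (b * c) :=
    fun {z} pz => by
      obtain ⟨-, e2, e3⟩ := hpa pz
      exact (d.commute_fix_inv S.odd (Or.inl rfl) pb.1 pz.1 pb.2.1 e2).symm.mul_right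
        (d.commute_fix_inv S.odd (Or.inr (Or.inl rfl)) pc.1 pz.1 pc.2.1 e3).symm
  have ha1 : a ≠ 1 := fun e => hne (e ▸ Commute.one_left a')
  obtain ⟨-, eat, eau⟩ := hpa pa
  refine d.constrained_of_sets S (mul_mem pb.1 pc.1) hh1 d.rot.prod_order hxH pa.1 pa'.1 (hca pa)
    (hca pa') hne (Or.inl ⟨(hpa pa).1, (hpa pa').1⟩) {a, b} ?_ ?_
    ⟨⟨a, Or.inl rfl, d.not_commute_of_inverted S.odd pa.1 ha1 eat⟩,
      ⟨a, Or.inl rfl, d.not_commute_of_inverted S.odd pa.1 ha1 eau⟩,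
      ⟨b, Or.inr rfl, d.not_commute_of_inverted S.odd pb.1 hb1 hxb⟩⟩
  · rintro z (rfl | rfl)
    exacts [⟨pa.1, hca pa⟩, ⟨pb.1, (Commute.refl z).mul_right hbc⟩]
  · rintro w (rfl | rfl) z (rfl | rfl)
    exacts [Or.inr eat, Or.inl (conj_eq_of_commute pb.2.1), Or.inr eau, Or.inr pb.2.2]

end Two

end CfsgLib.GW.Sig
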