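import Cfsg.Agent.Lib.GW.Sig.ClassTwo.Centralizers
import Cfsg.Agent.Lib.GW.Sig.Abelian.Balance
import Cfsg.Agent.Lib.GW.Sig.Embed

/-!
# The case of class two does not occur

An elementary abelian subgroup of rank three of `F`, all of whose elements have constrained
centralisers, gives the signalizer `W`, and `W X` satisfies the hypotheses of `Emb.false_of`.
-/

set_option autoImplicit false

namespace CfsgLib.GW.Sig

open Subgroup Cfsg
open CfsgLib.Signalizer (involution_sq involution_inv involution_ne_one orderOf_conj)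

universe u

variable {G : Type u} [Group G] [Finite G] {r : ℕ} [Fact r.Prime]

omit [Fact r.Prime] in
/-- Conjugation moves `O_{r'}(O(C(a)))` into that of the conjugate. -/
theorem map_thetaOf_centralizer_le (r : ℕ) (g a : G) :
    (thetaOf r (centralizer ({a} : Set G))).map (MulAut.conj g).toMonoidHom ≤
      thetaOf r (centralizer ({g * a * g⁻¹} : Set G)) := by
  refine le_thetaOf' ?_ ?_ (by rw [CfsgLib.Transfer.card_map_conj]; exact odd_thetaOf r _)
    (by rw [CfsgLib.Transfer.card_map_conj]; exact coprime_thetaOf r _)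
  · rintro _ ⟨y, hy, rfl⟩
    exact mem_centralizer_of_commute
      ((commute_of_mem_centralizer (thetaOf_le r _ hy)).map (MulAut.conj g).toMonoidHom)
  · intro c hc
    refine mem_normalizer_of_conj fun w hw => ?_
    obtain ⟨y, hy, rfl⟩ := hw
    have hc' : g⁻¹ * c * g ∈ centralizer ({a} : Set G) := mem_centralizer_of_commute (by
      have := (commute_of_mem_centralizer hc).map (MulAut.conj g⁻¹).toMonoidHom
      simpa [MulAut.conj_apply, mul_assoc] using this)
    refine ⟨(g⁻¹ * c * g) * y * (g⁻¹ * c * g)⁻¹, conj_mem_thetaOf (le_normalizer hc') hy, ?_⟩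
    show g * ((g⁻¹ * c * g) * y * (g⁻¹ * c * g)⁻¹) * g⁻¹ = c * (g * y * g⁻¹) * c⁻¹
    group

namespace Two

variable (d : Two G r)

/-- An elementary abelian subgroup of rank three with constrained centralisers. -/
structure Anchor where
  A : Subgroup G
  y : G
  le : A ≤ d.F
  comm : ∀ a ∈ A, ∀ b ∈ A, a * b = b * a
  card : r ^ 3 ≤ Nat.card A
  con : ∀ a ∈ A, a ≠ 1 → Constrained r (centralizer ({a} : Set G))
  y_mem : y ∈ A
  y_Y : y ∈ d.Y
  y_ne : y ≠ 1

theorem orderOf_eq {a : G} (ha : a ∈ d.F) (ha1 : a ≠ 1) : orderOf a = r :=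
  orderOf_eq_prime (d.pow a ha) ha1

theorem exists_anchor (S : Std G r) : Nonempty d.Anchor := by
  obtain ⟨b, b', pb, pb', hne⟩ := d.exists_noncomm S.odd
  obtain ⟨-, ⟨c, hc1, pc⟩, -⟩ := d.pieces S.odd
  have hodd : ∀ {x : G}, x ∈ d.F → Odd (orderOf x) := fun hx => d.odd_orderOf S.odd hx
  set e := b * b' * b⁻¹ * b'⁻¹ with he
  have heY : e ∈ d.Y := d.comm_mem_Y pb.1 pb'.1
  have he1 : e ≠ 1 := fun h => hne (commute_of_conj_eq (mul_inv_eq_one.1 h))
  have heF := d.Y_le heY
  have hec : ∀ f ∈ d.F, Commute e f := (d.mem_Y.1 heY).2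
  obtain ⟨het, heu⟩ := d.fixed_Y heY
  have hb1 : b ≠ 1 := fun h => hne (h ▸ Commute.one_left b')
  have hbc : Commute b c := d.commute_fix_inv S.odd (Or.inl rfl) pb.1 pc.1 pb.2.1 pc.2.2
  set A₁ := zpowers b ⊔ zpowers c with hA₁
  set A := A₁ ⊔ zpowers e with hA
  have hA₁F : A₁ ≤ d.F := sup_le (zpowers_le.2 pb.1) (zpowers_le.2 pc.1)
  have hAF : A ≤ d.F := sup_le hA₁F (zpowers_le.2 heF)
  have hn₁ : zpowers b ≤ normalizer ((zpowers c : Subgroup G) : Set G) := fun x hx =>
    mem_normalizer_of_conj fun y hy => by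
      obtain ⟨i, rfl⟩ := hx; obtain ⟨j, rfl⟩ := hy
      rw [conj_eq_of_commute ((hbc.zpow_left i).zpow_right j)]
      exact zpow_mem (mem_zpowers c) j
  have hn₂ : A₁ ≤ normalizer ((zpowers e : Subgroup G) : Set G) := fun x hx =>
    mem_normalizer_of_conj fun y hy => by
      obtain ⟨j, rfl⟩ := hy
      rw [conj_eq_of_commute ((hec x (hA₁F hx)).zpow_left j).symm]
      exact zpow_mem (mem_zpowers e) j
  have hdec₁ : ∀ x ∈ A₁, ∃ i j : ℤ, x = b ^ i * c ^ j := by
    intro x hx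
    obtain ⟨p, hp, q, hq, e'⟩ := (CfsgLib.Core.mem_sup_iff_mul hn₁).1 hx
    obtain ⟨i, rfl⟩ := hp; obtain ⟨j, rfl⟩ := hq
    exact ⟨i, j, e'⟩
  have hdec : ∀ x ∈ A, ∃ i j k : ℤ, x = b ^ i * c ^ j * e ^ k := by
    intro x hx
    obtain ⟨p, hp, q, hq, e'⟩ := (CfsgLib.Core.mem_sup_iff_mul hn₂).1 hx
    obtain ⟨i, j, rfl⟩ := hdec₁ p hp; obtain ⟨k, rfl⟩ := hq
    exact ⟨i, j, k, e'⟩
  -- pieces of powers
  have hbi : ∀ i : ℤ, Commute d.t (b ^ i) ∧ d.u * b ^ i * d.u⁻¹ = (b ^ i)⁻¹ := fun i =>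
    ⟨pb.2.1.zpow_right i, by rw [← conj_zpow, pb.2.2, inv_zpow]⟩
  have hci : ∀ i : ℤ, Commute d.u (c ^ i) ∧ d.t * c ^ i * d.t⁻¹ = (c ^ i)⁻¹ := fun i =>
    ⟨pc.2.1.zpow_right i, by rw [← conj_zpow, pc.2.2, inv_zpow]⟩
  refine ⟨{ A := A, y := e, le := hAF, comm := ?_, card := ?_, con := ?_,
            y_mem := mem_sup_right (mem_zpowers e), y_Y := heY, y_ne := he1 }⟩
  · intro x hx y hy
    obtain ⟨i, j, k, rfl⟩ := hdec x hx
    obtain ⟨i', j', k', rfl⟩ := hdec y hy
    have h1 : ∀ n : ℤ, Commute (b ^ i * c ^ j * e ^ k) (b ^ n) := fun n =>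
      ((((Commute.refl b).zpow_left i).zpow_right n).mul_left
        ((hbc.symm.zpow_left j).zpow_right n)).mul_left
          (((hec b pb.1).zpow_left k).zpow_right n)
    have h2 : ∀ n : ℤ, Commute (b ^ i * c ^ j * e ^ k) (c ^ n) := fun n =>
      (((hbc.zpow_left i).zpow_right n).mul_left
        (((Commute.refl c).zpow_left j).zpow_right n)).mul_left
          (((hec c pc.1).zpow_left k).zpow_right n)
    have h3 : ∀ n : ℤ, Commute (b ^ i * c ^ j * e ^ k) (e ^ n) := fun n =>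
      ((hec _ (hAF hx)).zpow_left n).symm
    exact (((h1 i').mul_right (h2 j')).mul_right (h3 k')).eq
  · have hAp : IsPGroup r A := d.isP.to_le hAF
    have h0 : (⊥ : Subgroup G) < zpowers b := bot_lt_iff_ne_bot.2 (mt zpowers_eq_bot.1 hb1)
    have h1 : zpowers b < A₁ := lt_of_le_of_ne le_sup_left fun h => by
      obtain ⟨i, hi⟩ : c ∈ zpowers b := h ▸ mem_sup_right (mem_zpowers c)
      refine hc1 (eq_one_of_inv_self (hodd pc.1) ?_)
      rw [← pc.2.2]
      exact conj_eq_of_commute (hi ▸ (hbi i).1)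
    have h2 : A₁ < A := lt_of_le_of_ne le_sup_left fun h => by
      obtain ⟨i, j, hij⟩ := hdec₁ e (h ▸ mem_sup_right (mem_zpowers e))
      have hj : c ^ j = 1 := by
        refine eq_one_of_inv_self (hodd (zpow_mem pc.1 j)) ?_
        have h3 : d.t * (b ^ i * c ^ j) * d.t⁻¹ = b ^ i * c ^ j := hij ▸ conj_eq_of_commute het
        rw [← conj_mul, conj_eq_of_commute (hbi i).1, (hci j).2] at h3
        exact mul_left_cancel h3
      refine he1 ?_
      rw [hij, hj, mul_one] at heu ⊢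
      refine eq_one_of_inv_self (hodd (zpow_mem pb.1 i)) ?_
      rw [← (hbi i).2]
      exact conj_eq_of_commute heu
    have e0 := card_mul_le_of_lt (hAp.to_le (h1.le.trans h2.le)) h0
    have e1 := card_mul_le_of_lt (hAp.to_le h2.le) h1
    have e2 := card_mul_le_of_lt hAp h2
    rw [card_bot, mul_one] at e0
    calc r ^ 3 = r * (r * r) := by ring
      _ ≤ r * (r * Nat.card (zpowers b)) := Nat.mul_le_mul_left r (Nat.mul_le_mul_left r e0)
      _ ≤ r * Nat.card A₁ := Nat.mul_le_mul_left r e1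
      _ ≤ _ := e2
  · intro x hx hx1
    obtain ⟨i, j, k, rfl⟩ := hdec x hx
    have hxF : b ^ i * c ^ j * e ^ k ∈ d.F := hAF hx
    by_cases hw1 : b ^ i = 1
    · refine d.next.constrained_fixed S hxF hx1 ?_
      show Commute d.u _
      rw [hw1, one_mul]
      exact (hci j).1.mul_right (heu.zpow_right k)
    by_cases hq1 : c ^ j = 1
    · refine d.constrained_fixed S hxF hx1 ?_
      rw [hq1, mul_one]
      exact (hbi i).1.mul_right (het.zpow_right k)
    -- conjugate of a product of two pieces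
    set w := b ^ i with hw
    set q := c ^ j with hq
    have hwF : w ∈ d.F := zpow_mem pb.1 i
    have hqF : q ∈ d.F := zpow_mem pc.1 j
    set e₁ := b' * w * b'⁻¹ * w⁻¹ with he₁
    have he₁' : e₁ = e ^ (-i) := by
      have h1 : b' * b * b'⁻¹ = e⁻¹ * b := by rw [he]; group
      rw [he₁, hw, ← conj_zpow, h1, ((hec b pb.1).inv_left).mul_zpow, inv_zpow, ← zpow_neg,
        mul_inv_cancel_right]
    have he₁1 : e₁ ≠ 1 := by
      intro h
      rw [he₁', ← orderOf_dvd_iff_zpow_eq_one, d.orderOf_eq heF he1, dvd_neg] at h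
      exact hw1 (orderOf_dvd_iff_zpow_eq_one.1 (by rwa [d.orderOf_eq pb.1 hb1]))
    have he₁c : ∀ f ∈ d.F, Commute e₁ f := fun f hf => d.cent b' pb'.1 w hwF f hf
    have hle : zpowers e₁ ≤ zpowers e := zpowers_le.2 (he₁' ▸ zpow_mem (mem_zpowers e) _)
    have heq : zpowers e₁ = zpowers e := eq_of_le_of_card_ge hle (by
      rw [Nat.card_zpowers, Nat.card_zpowers, d.orderOf_eq heF he1,
        d.orderOf_eq (d.Y_le (d.comm_mem_Y pb'.1 hwF)) he₁1])
    obtain ⟨m, hm⟩ : e ^ k ∈ zpowers e₁ := heq.ge (zpow_mem (mem_zpowers e) k)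
    set f := b' ^ m with hf
    have hfF : f ∈ d.F := zpow_mem pb'.1 m
    have h2 : f * w * f⁻¹ = e₁ ^ m * w := by
      have h3 : w * b' * w⁻¹ = e₁⁻¹ * b' := by rw [he₁]; group
      have h4 : w * f * w⁻¹ = (e₁ ^ m)⁻¹ * f := by
        rw [hf, ← conj_zpow, h3, ((he₁c b' pb'.1).inv_left).mul_zpow, inv_zpow]
      calc f * w * f⁻¹ = f * (w * f * w⁻¹)⁻¹ * w := by group
        _ = f * ((e₁ ^ m)⁻¹ * f)⁻¹ * w := by rw [h4]
        _ = e₁ ^ m * w := by group
    have h5 : f * q * f⁻¹ = q := conj_eq_of_commute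
      (((d.commute_fix_inv S.odd (Or.inl rfl) pb'.1 hqF pb'.2.1 (hci j).2)).zpow_left m)
    have hpw : Piece d.t d.u d.F w := ⟨hwF, (hbi i).1, (hbi i).2⟩
    have hpq : Piece d.u d.t d.F q := ⟨hqF, (hci j).1, (hci j).2⟩
    have hfN : f ∈ normalizer (d.F : Set G) := le_normalizer hfF
    have h6 := (d.conj hfF).constrained_mul S (hpw.conj hfN)
      (fun h => hw1 (conj_eq_one_iff.1 h)) (hpq.conj hfN) (fun h => hq1 (conj_eq_one_iff.1 h))
    rw [h2, h5, show e₁ ^ m = e ^ k from hm] at h6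
    rwa [(hec _ (mul_mem hwF hqF)).symm.zpow_right k |>.eq, ← mul_assoc]

namespace Anchor

variable {d} (α : d.Anchor)

theorem pow (α : d.Anchor) : ∀ a ∈ α.A, a ^ r = 1 := fun a ha => d.pow a (α.le ha)

/-- The signalizer. -/
noncomputable def W : Subgroup G :=
  ⨆ a : {a : G // a ∈ α.A ∧ a ≠ 1}, thetaOf r (centralizer ({(a : G)} : Set G))

theorem theta_le (α : d.Anchor) {a : G} (ha : a ∈ α.A) (ha1 : a ≠ 1) :
    thetaOf r (centralizer ({a} : Set G)) ≤ α.W :=
  le_iSup (fun b : {a : G // a ∈ α.A ∧ a ≠ 1} => thetaOf r (centralizer ({(b : G)} : Set G)))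
    ⟨a, ha, ha1⟩

theorem sq_le (α : d.Anchor) : r ^ 2 ≤ Nat.card α.A :=
  (Nat.pow_le_pow_right (Fact.out : r.Prime).pos (by norm_num)).trans α.card

theorem W_spec (S : Std G r) : ¬ r ∣ Nat.card α.W ∧ ∀ a ∈ α.A, a ≠ 1 →
    α.W ⊓ centralizer ({a} : Set G) = thetaOf r (centralizer ({a} : Set G)) :=
  Cfsg.Agent.S0217.result α.A α.comm α.pow α.card
    (fun a => thetaOf r (centralizer ({a} : Set G))) (fun _ _ _ => thetaOf_le r _)
    (fun _ _ _ => not_dvd_thetaOf r _)
    (fun a ha _ b hb _ hx => conj_mem_thetaOf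
      (le_normalizer (mem_centralizer_of_commute (α.comm b hb a ha))) hx)
    (fun _ _ _ => CfsgLib.OddLocal.FTFinal.odd_order_solvable (odd_thetaOf r _))
    (fun a ha _ b hb hb1 => balance_constrained S.odd (d.isP.to_le (zpowers_le.2 (α.le ha)))
      (α.comm a ha b hb) (α.con b hb hb1))

theorem A_le_normalizer_W (S : Std G r) : α.A ≤ normalizer (α.W : Set G) := by
  intro g hg
  refine mem_normalizer_of_conj fun x hx => ?_
  have h : α.W.map (MulAut.conj g).toMonoidHom ≤ α.W := by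
    rw [Anchor.W, Subgroup.map_iSup]
    refine iSup_le fun a => (map_thetaOf_centralizer_le r g a.1).trans ?_
    rw [conj_eq_of_commute (α.comm g hg a.1 a.2.1)]
    exact α.theta_le a.2.1 a.2.2
  exact h (CfsgLib.Transfer.conj_mem_map_conj hx)

theorem W_odd (S : Std G r) : Odd (Nat.card α.W) := by
  obtain ⟨hW, hfix⟩ := α.W_spec S
  exact odd_of_generated S.odd α.comm α.pow α.sq_le (α.A_le_normalizer_W S) hW fun a ha ha1 => by
    rw [hfix a ha ha1]; exact odd_thetaOf r _

/-- `O_{r'}(O(C(y)))` lies in `W` for `y ∈ Y`. -/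
theorem theta_Y_le (S : Std G r) {y : G} (hy : y ∈ d.Y) :
    thetaOf r (centralizer ({y} : Set G)) ≤ α.W := by
  haveI : IsMulCommutative α.A := ⟨⟨fun x z => Subtype.ext (α.comm _ x.2 _ z.2)⟩⟩
  refine CfsgLib.LocalEven.le_of_centralizers_le (p := r) α.pow α.sq_le
    (fun a ha => le_normalizer_thetaOf r _
      (mem_centralizer_of_commute ((d.mem_Y.1 hy).2 a (α.le ha)).symm))
    (not_dvd_thetaOf r _) fun a ha ha1 => ?_
  exact (balance_constrained S.odd (d.Y_p.to_le (zpowers_le.2 hy))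
    ((d.mem_Y.1 hy).2 a (α.le ha)) (α.con a ha ha1)).trans (α.theta_le ha ha1)

/-- `O_{r'}(O(C(h)))` lies in `W` for `h ∈ F`. -/
theorem theta_F_le (S : Std G r) {h : G} (hh : h ∈ d.F) :
    thetaOf r (centralizer ({h} : Set G)) ≤ α.W := by
  classical
  have hhp : IsPGroup r (zpowers h) := d.isP.to_le (zpowers_le.2 hh)
  by_cases hY2 : r ^ 2 ≤ Nat.card d.Y
  · haveI : IsMulCommutative d.Y := ⟨⟨fun x z => Subtype.ext (d.Y_comm _ x.2 _ z.2)⟩⟩
    refine CfsgLib.LocalEven.le_of_centralizers_le (p := r) (fun a ha => d.pow a (d.Y_le ha)) hY2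
      (fun a ha => le_normalizer_thetaOf r _
        (mem_centralizer_of_commute ((d.mem_Y.1 ha).2 h hh)))
      (not_dvd_thetaOf r _) fun a ha ha1 => ?_
    exact (balance_constrained S.odd hhp ((d.mem_Y.1 ha).2 h hh).symm
      (d.constrained_Y S ha ha1)).trans (α.theta_Y_le S ha)
  have hYr : Nat.card d.Y ≤ r := by
    obtain ⟨k, hk⟩ := IsPGroup.iff_card.1 d.Y_p
    rw [hk] at hY2 ⊢
    have : k < 2 := by
      by_contra h2
      exact hY2 (Nat.pow_le_pow_right (Fact.out : r.Prime).pos (not_lt.1 h2))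
    exact (Nat.pow_le_pow_right (Fact.out : r.Prime).pos (by omega : k ≤ 1)).trans (pow_one r).le
  set B := α.A ⊓ centralizer ({h} : Set G) with hB
  let φ : α.A →* G :=
    { toFun := fun a => h * (a : G) * h⁻¹ * (a : G)⁻¹
      map_one' := by simp
      map_mul' := fun a b => by
        have h1 : Commute (h * (b : G) * h⁻¹ * (b : G)⁻¹) (a : G) :=
          d.cent h hh b (α.le b.2) a (α.le a.2)
        rw [Subgroup.coe_mul]
        calc h * ((a : G) * b) * h⁻¹ * ((a : G) * b)⁻¹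
            = h * (a : G) * h⁻¹ * ((h * (b : G) * h⁻¹ * (b : G)⁻¹) * (a : G)⁻¹) := by group
          _ = h * (a : G) * h⁻¹ * ((a : G)⁻¹ * (h * (b : G) * h⁻¹ * (b : G)⁻¹)) := by
            rw [h1.inv_right.eq]
          _ = _ := by group }
  have hrange : Nat.card φ.range ≤ r :=
    (Subgroup.card_le_of_le (by rintro _ ⟨a, rfl⟩; exact d.comm_mem_Y hh (α.le a.2))).trans hYr
  have hker : Nat.card φ.ker ≤ Nat.card B := by
    rw [← card_map_of_injective α.A.subtype_injective]
    refine Subgroup.card_le_of_le ?_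
    rintro _ ⟨a, ha, rfl⟩
    exact ⟨a.2, mem_centralizer_of_commute (commute_of_conj_eq (mul_inv_eq_one.1 ha)).symm⟩
  have hB2 : r ^ 2 ≤ Nat.card B := by
    have h1 := φ.ker.index_mul_card
    rw [index_ker] at h1
    refine Nat.le_of_mul_le_mul_left ?_ (Fact.out : r.Prime).pos
    calc r * r ^ 2 = r ^ 3 := by ring
      _ ≤ Nat.card α.A := α.card
      _ = Nat.card φ.range * Nat.card φ.ker := h1.symm
      _ ≤ r * Nat.card B := Nat.mul_le_mul hrange hker
  haveI : IsMulCommutative B := ⟨⟨fun x z => Subtype.ext (α.comm _ x.2.1 _ z.2.1)⟩⟩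
  refine CfsgLib.LocalEven.le_of_centralizers_le (p := r)
    (fun a (ha : a ∈ B) => α.pow a (Subgroup.mem_inf.1 ha).1) hB2
    (inf_le_right.trans (le_normalizer_thetaOf r _)) (not_dvd_thetaOf r _) fun a ha ha1 => ?_
  exact (balance_constrained S.odd hhp (commute_of_mem_centralizer ha.2).symm
    (α.con a ha.1 ha1)).trans (α.theta_le ha.1 ha1)

theorem X_le_normalizer_W (S : Std G r) : d.c.X ≤ normalizer (α.W : Set G) := by
  intro g hg
  refine mem_normalizer_of_conj fun x hx => ?_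
  have h : α.W.map (MulAut.conj g).toMonoidHom ≤ α.W := by
    rw [Anchor.W, Subgroup.map_iSup]
    exact iSup_le fun a => (map_thetaOf_centralizer_le r g a.1).trans
      (α.theta_F_le S ((mem_normalizer_iff.1 (d.norm_mem hg) a.1).1 (α.le a.2.1)))
  exact h (CfsgLib.Transfer.conj_mem_map_conj hx)

theorem θY_le_W (S : Std G r) : d.θY ≤ α.W := by
  haveI : IsMulCommutative α.A := ⟨⟨fun x z => Subtype.ext (α.comm _ x.2 _ z.2)⟩⟩
  refine CfsgLib.LocalEven.le_of_centralizers_le (p := r) α.pow α.sq_le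
    (((α.le.trans d.F_le_X).trans d.Y_norm).trans d.θY_normalizer)
    (not_dvd_thetaOf r _) fun a ha ha1 => le_trans ?_ (α.theta_le ha ha1)
  set C := centralizer ({a} : Set G) with hC
  have hYC : d.Y ≤ C := fun y hy =>
    mem_centralizer_of_commute ((d.mem_Y.1 hy).2 a (α.le ha))
  obtain ⟨R, hR⟩ := exists_sylow_ge d.Y_p hYC
  refine le_thetaOf_of_invariant S.odd S.noQd (α.con a ha ha1) (R := R) inf_le_right
    ((coprime_thetaOf r _).coprime_dvd_left (card_dvd_of_le inf_le_left)) ?_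
  exact (le_inf (((d.Y_wclosed S).le_normalizer (R.2.map _) hR).trans d.θY_normalizer)
    ((map_subtype_le _).trans le_normalizer)).trans CfsgLib.Transfer.normalizer_le_normalizer_inf

/-- Constrained centralisers of elements of `F` lie in `W X`. -/
theorem centralizer_le (S : Std G r) {h : G} (hh : h ∈ d.F)
    (hc : Constrained r (centralizer ({h} : Set G))) :
    centralizer ({h} : Set G) ≤ α.W ⊔ d.c.X := by
  obtain ⟨hfac, -⟩ := factor_of_wclosed S.odd S.noQd hc d.Y_p (d.Y_wclosed S) d.Y_comm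
    fun y hy => mem_centralizer_of_commute ((d.mem_Y.1 hy).2 h hh)
  exact hfac.trans (sup_le ((α.theta_F_le S hh).trans le_sup_left)
    (inf_le_right.trans ((d.NY_le S).trans (sup_le_sup (α.θY_le_W S) le_rfl))))

theorem M_ne_top (S : Std G r) : α.W ⊔ d.c.X ≠ ⊤ := by
  intro h
  haveI := S.simple
  have hn : normalizer (α.W : Set G) = ⊤ :=
    top_le_iff.1 (h ▸ sup_le le_normalizer (α.X_le_normalizer_W S))
  rw [normalizer_eq_top_iff] at hn
  rcases hn.eq_bot_or_eq_top with e | e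
  · rw [e, bot_sup_eq] at h
    exact d.c.proper (top_le_iff.1 (h ▸ d.c.X_le))
  · have h1 := α.W_odd S
    rw [e, card_top] at h1
    exact (Nat.not_even_iff_odd.2 h1) (even_iff_two_dvd.2 (d.rot.ht ▸ orderOf_dvd_natCard d.t))

/-- The data for `Emb.false_of`. -/
noncomputable def emb (S : Std G r) : Emb G r where
  N := d.c.X
  W := α.W
  B := d.Y
  t := d.t
  a := α.y
  ht := d.rot.ht
  tN := d.ht
  norm := α.X_le_normalizer_W S
  W_odd := α.W_odd S
  W_coprime := (α.W_spec S).1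
  ctl := controls_of_ctx S d.c le_rfl
  B_le := d.Y_le.trans d.F_le_X
  B_t := fun y hy => mem_centralizer_of_commute (d.fixed_Y hy).1.symm
  B_p := d.Y_p
  B_comm := d.Y_comm
  B_norm := inf_le_left.trans d.Y_norm
  a_mem := α.y_Y
  a_cent := α.centralizer_le S (d.Y_le α.y_Y) (α.con α.y α.y_mem α.y_ne)

end Anchor

include d in
/-- The case of class two does not occur. -/
theorem false_of (S : Std G r) : False := by
  classical
  obtain ⟨α⟩ := d.exists_anchor S
  obtain ⟨b, b', pb, pb', hne⟩ := d.exists_noncomm S.odd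
  have hb1 : b ≠ 1 := fun h => hne (h ▸ Commute.one_left b')
  refine (α.emb S).false_of S ?_ (α.M_ne_top S) ?_ ?_
  · show thetaOf r (U d.t) ≤ α.W ⊔ d.c.X
    obtain ⟨hyt, hyu⟩ := d.fixed_Y α.y_Y
    have hyc : ∀ f ∈ d.F, Commute α.y f := (d.mem_Y.1 α.y_Y).2
    set A := zpowers b ⊔ zpowers α.y with hA
    have hAF : A ≤ d.F := sup_le (zpowers_le.2 pb.1) (zpowers_le.2 (d.Y_le α.y_Y))
    have hAt : A ≤ centralizer ({d.t} : Set G) := sup_le
      (zpowers_le.2 (mem_centralizer_of_commute pb.2.1.symm))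
      (zpowers_le.2 (mem_centralizer_of_commute hyt.symm))
    have hAc : ∀ x ∈ A, ∀ z ∈ A, x * z = z * x := by
      have hle : A ≤ centralizer ((A : Subgroup G) : Set G) := by
        refine sup_le (zpowers_le.2 ?_) (zpowers_le.2 ?_)
        · refine mem_centralizer_iff.2 fun z hz => ?_
          have h1 : A ≤ centralizer ({b} : Set G) := sup_le
            (zpowers_le.2 (mem_centralizer_of_commute (Commute.refl b)))
            (zpowers_le.2 (mem_centralizer_of_commute (hyc b pb.1)))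
          exact (commute_of_mem_centralizer (h1 hz)).eq
        · exact mem_centralizer_iff.2 fun z hz => (hyc z (hAF hz)).symm.eq
      exact fun x hx z hz => (mem_centralizer_iff.1 (hle hx) z hz).symm
    have hA2 : r ^ 2 ≤ Nat.card A := by
      have hlt : zpowers b < A := lt_of_le_of_ne le_sup_left fun h => by
        obtain ⟨i, hi⟩ : α.y ∈ zpowers b := h ▸ mem_sup_right (mem_zpowers α.y)
        refine α.y_ne (eq_one_of_inv_self (d.odd_orderOf S.odd (d.Y_le α.y_Y)) ?_)
        have h1 : d.u * b ^ i * d.u⁻¹ = (b ^ i)⁻¹ := by rw [← conj_zpow, pb.2.2, inv_zpow]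
        rw [show b ^ i = α.y from hi, conj_eq_of_commute hyu] at h1
        exact h1.symm
      have h2 := card_mul_le_of_lt (d.isP.to_le hAF) hlt
      rwa [Nat.card_zpowers, d.orderOf_eq pb.1 hb1, ← pow_two] at h2
    haveI : IsMulCommutative A := ⟨⟨fun x z => Subtype.ext (hAc _ x.2 _ z.2)⟩⟩
    have hAU : A ≤ U d.t := fun x hx => (S.base.mem_U d.rot.ht).2
      ⟨commute_of_mem_centralizer (hAt hx), d.odd_orderOf S.odd (hAF hx)⟩
    exact CfsgLib.LocalEven.le_of_centralizers_le (p := r) (fun x hx => d.pow x (hAF hx)) hA2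
      (hAU.trans (le_normalizer_thetaOf r _)) (not_dvd_thetaOf r _) fun x hx hx1 =>
        inf_le_right.trans (α.centralizer_le S (hAF hx)
          (d.constrained_fixed S (hAF hx) hx1 (commute_of_mem_centralizer (hAt hx)).symm))
  · obtain ⟨k, hk⟩ := IsPGroup.iff_card.1 (d.isP.to_le α.le)
    have h3 : 3 ≤ k :=
      (Nat.pow_le_pow_iff_right (Fact.out : r.Prime).one_lt).1 (hk ▸ α.card)
    exact (hk ▸ pow_dvd_pow r h3 : r ^ 3 ∣ Nat.card α.A).trans (card_subgroup_dvd_card α.A)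
  · intro s hs (hsX : s ∈ d.c.X) (hst : Commute s d.t)
    set K := d.F ⊓ centralizer ({d.t} : Set G) with hK
    have hsK : s ∈ normalizer (K : Set G) := CfsgLib.Transfer.normalizer_le_normalizer_inf
      (Subgroup.mem_inf.2 ⟨d.norm_mem hsX, le_normalizer (mem_centralizer_of_commute hst)⟩)
    obtain ⟨a, ha, hsa, ha1⟩ : ∃ a ∈ K, s * a * s⁻¹ = a ∧ a ≠ 1 := by
      by_contra hno
      push Not at hno
      have hall := CfsgLib.PGroups.BSW.inverts_of_fpf K (involution_sq hs)
        (fun a ha => (mem_normalizer_iff.1 hsK a).1 ha) fun a ha h => hno a ha h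
      have hbK : b ∈ K := ⟨pb.1, mem_centralizer_of_commute pb.2.1.symm⟩
      have hb'K : b' ∈ K := ⟨pb'.1, mem_centralizer_of_commute pb'.2.1.symm⟩
      have h1 := hall _ (mul_mem hbK hb'K)
      rw [← conj_mul, hall b hbK, hall b' hb'K, ← mul_inv_rev, inv_inj] at h1
      exact hne h1.symm
    exact ⟨a, d.F_le_X ha.1, d.isP.to_le (zpowers_le.2 ha.1), commute_of_conj_eq hsa,
      α.centralizer_le S ha.1
        (d.constrained_fixed S ha.1 ha1 (commute_of_mem_centralizer ha.2).symm)⟩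

end Two

end CfsgLib.GW.Sig
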